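import Cfsg.Agent.H419.EP.Targets_m3
import Cfsg.Agent.H936.DSAll
import Cfsg.Agent.S0495
import Cfsg.Agent.FastGrp
import Cfsg.Agent.Prune
set_option linter.all false
prune_inst 0x7f00000000000000000000000000000000000000000000000000000000000000000000000000000000000000000000000000000000000000000000000000000000000000000000000000000000000000003fffffffffffffffffffffffffffbeffbdffffffff
open scoped Cfsg.Agent.FastGrp

/-!
# S3499: the final assembly from the targets and the models (helper419)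
-/

set_option autoImplicit false

namespace Cfsg.Agent.H419.EP

open Subgroup Cfsg.Agent.H284
open scoped MatrixGroups

/-- Schreier for `G / T` -/
theorem solv_of_DS {G : Type*} [Group G] {T : Subgroup G} [T.Normal] (hC : Subgroup.centralizer (T : Set G) = ⊥)
    {n : ℕ} (h : Cfsg.Agent.H936.DS n T) : Group.IsSolvable (G ⧸ T) := by
  have h1 : derivedSeries G n ≤ T := by
    intro g hg
    have h2 : MulAut.conjNormal g ∈ derivedSeries (MulAut T) n :=
      Cfsg.Agent.H936.map_derivedSeries_le (MulAut.conjNormal : G →* MulAut T) n ⟨g, hg, rfl⟩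
    obtain ⟨t, ht⟩ := h h2
    have h3 : (t : G)⁻¹ * g ∈ Subgroup.centralizer (T : Set G) := by
      rw [Subgroup.mem_centralizer_iff]
      intro x hx
      have h4 := DFunLike.congr_fun ht ⟨x, hx⟩
      have h5 : (t : G) * x * (t : G)⁻¹ = g * x * g⁻¹ := by
        have := congrArg (fun y : T => (y : G)) h4
        simpa [MulAut.conj_apply, MulAut.conjNormal_apply] using this
      have h6 : x = (t : G)⁻¹ * (g * x * g⁻¹) * t := by
        rw [← h5]; group
      calc x * ((t : G)⁻¹ * g) = ((t : G)⁻¹ * (g * x * g⁻¹) * t) * ((t : G)⁻¹ * g) := by rw [← h6]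
        _ = (t : G)⁻¹ * g * x := by group
    rw [hC, mem_bot, inv_mul_eq_one] at h3
    rw [← h3]
    exact t.2
  refine (Group.isSolvable_def (G ⧸ T)).2 ⟨n, ?_⟩
  rw [← Cfsg.Agent.H936.map_derivedSeries_of_surj (QuotientGroup.mk'_surjective T) n, Subgroup.map_eq_bot_iff, QuotientGroup.ker_mk']
  exact h1

/-- the models (tasks VIII-a, b, c) -/
structure Models : Prop where
  psl : ∀ {F : Type} [Field F] [Fintype F] (n : ℕ), 2 ≤ n →
    Nonempty (Model (Matrix.ProjectiveSpecialLinearGroup (Fin n) F) (Cfsg.Geo.specialLinear (Fin n) F))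
  psp : ∀ {F : Type} [Field F] [Fintype F] (k : ℕ), 2 ≤ k → Nonempty (Model (Cfsg.PSp k F) (Cfsg.spGL k F))
  psu : ∀ {F : Type} [Field F] [Fintype F] (n q : ℕ), Fintype.card F = q ^ 2 → 3 ≤ n →
    Nonempty (Model (Cfsg.PSU n F q) (Cfsg.GU n F q ⊓ Cfsg.Geo.specialLinear (Fin n) F))
  orth : ∀ {F : Type} [Field F] [Fintype F] {ι : Type} [Fintype ι] [DecidableEq ι] {Qf : (ι → F) → F},
    7 ≤ Fintype.card ι → Cfsg.Geo.IsNondegenerateQuadraticForm Qf →
    Nonempty (Model (Cfsg.POmega F Qf) (Cfsg.Geo.omegaGL Qf))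
  odd : ∀ {F : Type} [Field F] [Fintype F] (k : ℕ), Odd (Fintype.card F) →
    Cfsg.Geo.IsNondegenerateQuadraticForm (Cfsg.quadFormOdd k F)
  plus : ∀ {F : Type} [Field F] [Fintype F] (k : ℕ), Cfsg.Geo.IsNondegenerateQuadraticForm (Cfsg.quadFormPlus k F)
  minus : ∀ {F : Type} [Field F] [Fintype F] (k : ℕ) (a b : F),
    (∀ z₁ z₂ : F, z₁ ^ 2 + a * z₁ * z₂ + b * z₂ ^ 2 = 0 → z₁ = 0 ∧ z₂ = 0) →
    Cfsg.Geo.IsNondegenerateQuadraticForm (Cfsg.quadFormMinus k F a b)

/-- the targets -/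
structure Targets : Prop where
  pslN : PslNonRes
  pslR : PslRes
  pspN : PspNonRes
  pspR : PspRes
  psuN : PsuNonRes
  psuR : PsuRes
  orthN : OrthNonRes
  orthR : OrthRes

/-- The conclusion of S3499. -/
def Concl (T : Type*) [Group T] : Prop :=
    (∃ (F : Type) (_ : Field F) (_ : Fintype F), 4 ≤ Fintype.card F ∧ Nonempty (T ≃* Matrix.ProjectiveSpecialLinearGroup (Fin 2) F)) ∨
    (∃ (F : Type) (_ : Field F) (_ : Fintype F) (m : ℕ), 3 ≤ m ∧ Fintype.card F = 2 ∧ Nonempty (T ≃* Cfsg.PSp m F)) ∨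
    (∃ (F : Type) (_ : Field F) (_ : Fintype F), Fintype.card F = 2 ∧ Nonempty (T ≃* Matrix.ProjectiveSpecialLinearGroup (Fin 4) F)) ∨
    (∃ (F : Type) (_ : Field F) (_ : Fintype F), Fintype.card F = 9 ∧ Nonempty (T ≃* Cfsg.PSU 4 F 3)) ∨
    (∃ (F : Type) (_ : Field F) (_ : Fintype F), Fintype.card F = 4 ∧ Nonempty (T ≃* Matrix.ProjectiveSpecialLinearGroup (Fin 3) F))

/-- **S3499 from the models and the targets.** -/
theorem main_of (hM : Models) (ht : Targets)
    (h168 : ∀ {F : Type} [Field F] [Fintype F], Fintype.card F = 2 →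
      Nat.card (Matrix.ProjectiveSpecialLinearGroup (Fin 3) F) = 168)
    {G : Type*} [Group G] [Finite G] {Ω : Type*} [Fintype Ω] [MulAction G Ω] [FaithfulSMul G Ω] (T : Subgroup G)
    [T.Normal] (hT : IsSimpleGroup T) (hTc : ¬ IsMulCommutative T)
    (hC : Subgroup.centralizer (T : Set G) = ⊥)
    (hcl : (Cfsg.IsPSL T ∨ Cfsg.IsPSp T ∨ Cfsg.IsPSU T ∨ Cfsg.IsPOmegaOdd T ∨ Cfsg.IsPOmegaPlus T ∨ Cfsg.IsPOmegaMinus T))
    (hprim : MulAction.IsPreprimitive G Ω) (hH : ∀ α : Ω, MulAction.stabilizer G α ≠ ⊥)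
    (hep : ∀ (α : Ω) (ω : Ω), MulAction.IsPreprimitive (MulAction.stabilizer G α) (MulAction.orbit (MulAction.stabilizer G α) ω)) :
    Concl T := by
  have hsol : Group.IsSolvable (G ⧸ T) := by
    rcases hcl with h | h | h | h | h | h
    · exact solv_of_DS hC (Cfsg.Agent.H936.ds_isPSL h)
    · exact solv_of_DS hC (Cfsg.Agent.H936.ds_isPSp h)
    · exact solv_of_DS hC (Cfsg.Agent.H936.ds_isPSU h)
    · exact solv_of_DS hC (Cfsg.Agent.H936.ds_pomegaOdd h)
    · exact solv_of_DS hC (Cfsg.Agent.H936.ds_pomegaPlus h)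
    · exact solv_of_DS hC (Cfsg.Agent.H936.ds_pomegaMinus h)
  have hΩ : Nonempty Ω := by
    by_contra hcon
    rw [not_nonempty_iff] at hcon
    apply hTc
    constructor
    constructor
    intro a b
    have : ∀ x y : G, x = y := fun x y => FaithfulSMul.eq_of_smul_eq_smul (α := Ω) fun c => (hcon.false c).elim
    exact Subtype.ext (this _ _)
  obtain ⟨α⟩ := hΩ
  -- the T-form on any isomorphic group
  have key : ∀ {Q : Type} [Group Q], (T ≃* Q) → ∃ (A : Subgroup Q) (Γ : Subgroup (MulAut Q)), EPT A Γ := fun e =>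
    ⟨_, _, ept_of_preprimitive T hT hTc hC hprim hH hep hsol e α⟩
  rcases hcl with h | h | h | h | h | h
  · obtain ⟨F, _, _, n, hn, h4, ⟨e⟩⟩ := h
    obtain ⟨A, Γ, hE⟩ := key e
    obtain ⟨m⟩ := hM.psl (F := F) n hn
    haveI : IsSimpleGroup (Matrix.ProjectiveSpecialLinearGroup (Fin n) F) := e.symm.isSimpleGroup
    haveI : Finite (Matrix.ProjectiveSpecialLinearGroup (Fin n) F) := Finite.of_equiv _ e.toEquiv
    rcases Nat.lt_or_ge n 3 with hn3 | hn3
    · obtain rfl : n = 2 := by omega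
      exact Or.inl ⟨F, _, _, h4 rfl, ⟨e⟩⟩
    · by_cases h32 : n = 3 ∧ Fintype.card F = 2
      · obtain ⟨rfl, hF⟩ := h32
        haveI : Fact (Nat.Prime 7) := ⟨by norm_num⟩
        have h1 : Nat.card T = 168 := by
          rw [Nat.card_congr e.toEquiv, h168 hF]
        haveI : IsSimpleGroup T := hT
        obtain ⟨f⟩ := Cfsg.Agent.S0495.result h1 (F := ZMod 7) (ZMod.card 7)
        exact Or.inl ⟨ZMod 7, inferInstance, inferInstance, by rw [ZMod.card]; norm_num, ⟨f⟩⟩
      by_cases h34 : n = 3 ∧ Fintype.card F = 4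
      · obtain ⟨rfl, hF⟩ := h34
        exact Or.inr (Or.inr (Or.inr (Or.inr ⟨F, _, _, hF, ⟨e⟩⟩)))
      by_cases h42 : n = 4 ∧ Fintype.card F = 2
      · obtain ⟨rfl, hF⟩ := h42
        exact Or.inr (Or.inr (Or.inl ⟨F, _, _, hF, ⟨e⟩⟩))
      exfalso
      by_cases hr : Cfsg.Geo.InLinearResidualClass (m.hat A)
      · exact ht.pslR inferInstance hE m hn3 h32 h34 h42 hr
      · exact ht.pslN inferInstance hE m hn3 h32 h34 h42 hr
  · obtain ⟨F, _, _, k, hk, h3, ⟨e⟩⟩ := h
    obtain ⟨A, Γ, hE⟩ := key e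
    obtain ⟨m⟩ := hM.psp (F := F) k hk
    haveI : IsSimpleGroup (Cfsg.PSp k F) := e.symm.isSimpleGroup
    haveI : Finite (Cfsg.PSp k F) := Finite.of_equiv _ e.toEquiv
    by_cases hq : Fintype.card F = 2
    · refine Or.inr (Or.inl ⟨F, _, _, k, ?_, hq, ⟨e⟩⟩)
      by_contra hk3
      have := h3 (by omega)
      omega
    · exfalso
      have hq3 : 3 ≤ Fintype.card F := by
        have := Fintype.one_lt_card (α := F)
        omega
      by_cases hr : Cfsg.Geo.InSymplecticResidualClass (m.hat A)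
      · exact ht.pspR inferInstance hE m hk hq3 hr
      · exact ht.pspN inferInstance hE m hk hq3 hr
  · obtain ⟨F, _, _, n, q, hF, hn, hex, ⟨e⟩⟩ := h
    obtain ⟨A, Γ, hE⟩ := key e
    obtain ⟨m⟩ := hM.psu (F := F) n q hF hn
    haveI : IsSimpleGroup (Cfsg.PSU n F q) := e.symm.isSimpleGroup
    haveI : Finite (Cfsg.PSU n F q) := Finite.of_equiv _ e.toEquiv
    by_cases h43 : n = 4 ∧ q = 3
    · obtain ⟨rfl, rfl⟩ := h43
      exact Or.inr (Or.inr (Or.inr (Or.inl ⟨F, _, _, by rw [hF]; norm_num, ⟨e⟩⟩)))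
    · exfalso
      by_cases hr : Cfsg.Geo.InUnitaryResidualClass (m.hat A)
      · exact ht.psuR inferInstance hE m hF hn hex h43 hr
      · exact ht.psuN inferInstance hE m hF hn hex h43 hr
  · exfalso
    obtain ⟨F, _, _, k, hk, hodd, ⟨e⟩⟩ := h
    obtain ⟨A, Γ, hE⟩ := key e
    have hc : 7 ≤ Fintype.card (Unit ⊕ (Fin k ⊕ Fin k)) := by simp; omega
    have hnd := hM.odd (F := F) k hodd
    obtain ⟨m⟩ := hM.orth hc hnd
    haveI : IsSimpleGroup (Cfsg.POmega F (Cfsg.quadFormOdd k F)) := e.symm.isSimpleGroup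
    haveI : Finite (Cfsg.POmega F (Cfsg.quadFormOdd k F)) := Finite.of_equiv _ e.toEquiv
    by_cases hr : Cfsg.Geo.InOrthogonalResidualClass (m.hat A)
    · exact ht.orthR inferInstance hE m hc hnd hr
    · exact ht.orthN inferInstance hE m hc hnd hr
  · exfalso
    obtain ⟨F, _, _, k, hk, ⟨e⟩⟩ := h
    obtain ⟨A, Γ, hE⟩ := key e
    have hc : 7 ≤ Fintype.card (Fin k ⊕ Fin k) := by simp; omega
    have hnd := hM.plus (F := F) k
    obtain ⟨m⟩ := hM.orth hc hnd
    haveI : IsSimpleGroup (Cfsg.POmega F (Cfsg.quadFormPlus k F)) := e.symm.isSimpleGroup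
    haveI : Finite (Cfsg.POmega F (Cfsg.quadFormPlus k F)) := Finite.of_equiv _ e.toEquiv
    by_cases hr : Cfsg.Geo.InOrthogonalResidualClass (m.hat A)
    · exact ht.orthR inferInstance hE m hc hnd hr
    · exact ht.orthN inferInstance hE m hc hnd hr
  · exfalso
    obtain ⟨F, _, _, k, a, b, hk, hab, ⟨e⟩⟩ := h
    obtain ⟨A, Γ, hE⟩ := key e
    have hc : 7 ≤ Fintype.card ((Fin (k - 1) ⊕ Fin (k - 1)) ⊕ Fin 2) := by simp; omega
    have hnd := hM.minus (F := F) (k - 1) a b hab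
    obtain ⟨m⟩ := hM.orth hc hnd
    haveI : IsSimpleGroup (Cfsg.POmega F (Cfsg.quadFormMinus (k - 1) F a b)) := e.symm.isSimpleGroup
    haveI : Finite (Cfsg.POmega F (Cfsg.quadFormMinus (k - 1) F a b)) := Finite.of_equiv _ e.toEquiv
    by_cases hr : Cfsg.Geo.InOrthogonalResidualClass (m.hat A)
    · exact ht.orthR inferInstance hE m hc hnd hr
    · exact ht.orthN inferInstance hE m hc hnd hr

end Cfsg.Agent.H419.EP
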